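/-
`Qd(p)` is not involved in `PSU(3, q)` in characteristic `p`.
-/
import Cfsg.Agent.Lib.KnownSimple.PSUAut.Groups
import Cfsg.Agent.Lib.Techniques.QdBasics

set_option autoImplicit false

namespace CfsgLib.QdFreeU3

open Matrix CfsgLib.PSUAut
open CfsgLib.UnitarySpec (psuMk)

variable {F : Type*} [Field F] {q : ℕ}

local notation "V3" => Fin 3 → F
local notation "h3" => Cfsg.hermForm 3 F q
local notation "SU3" => (Cfsg.SU 3 F q)

variable [Fintype F] (hF : Fintype.card F = q ^ 2) {σ : F ≃+* F} (hσ : ∀ a, σ a = a ^ q)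

include hF hσ

lemma frame {x y : V3} (hxx : h3 x x = 0) (hyx : h3 y x = 1) :
    ∃ e, h3 e x = 0 ∧ h3 e y = 0 ∧ h3 e e ≠ 0 ∧
      LinearIndependent F ![x, e, y] ∧ ∀ w, h3 w x = 0 → ∃ a b : F, w = a • x + b • e := by
  obtain ⟨e, he0, he⟩ := exists_perp hF hσ ![x, y] (by omega)
  have hex : h3 e x = 0 := he 0
  have hey : h3 e y = 0 := he 1
  have hxe : h3 x e = 0 := (hcomm hF hσ _ _).1 hex
  have hye : h3 y e = 0 := (hcomm hF hσ _ _).1 hey
  have hxy : h3 x y = 1 := by rw [hconj hF hσ y x, hyx, map_one]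
  have hind0 : ∀ a b c : F, a • x + b • e + c • y = 0 → c = 0 ∧ b * h3 e e = 0 ∧ (b = 0 → a = 0) := by
    intro a b c h0
    have h1 := congrArg (fun w => h3 w x) h0
    simp only [hadd_left hF hσ, hsmul_left hF hσ, hzero_left hF hσ, hxx, hex, hyx] at h1
    have h2 := congrArg (fun w => h3 w e) h0
    simp only [hadd_left hF hσ, hsmul_left hF hσ, hzero_left hF hσ, hxe, hye] at h2
    have hc : c = 0 := by linear_combination h1
    refine ⟨hc, by linear_combination h2, fun hb => ?_⟩
    have h4 := congrArg (fun w => h3 w y) h0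
    simp only [hadd_left hF hσ, hsmul_left hF hσ, hzero_left hF hσ, hxy, hey, hb, hc] at h4
    linear_combination h4
  have hli : h3 e e ≠ 0 → LinearIndependent F ![x, e, y] := by
    intro hee
    rw [Fintype.linearIndependent_iff]
    intro g hg
    rw [Fin.sum_univ_three] at hg
    obtain ⟨hc, hb, ha⟩ := hind0 (g 0) (g 1) (g 2) hg
    have hb' := (mul_eq_zero.1 hb).resolve_right hee
    intro i
    fin_cases i
    · exact ha hb'
    · exact hb'
    · exact hc
  have hee : h3 e e ≠ 0 := by
    intro hee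
    have hl2 : LinearIndependent F ![x, e, y] := by
      rw [Fintype.linearIndependent_iff]
      intro g hg
      rw [Fin.sum_univ_three] at hg
      obtain ⟨hc, -, ha⟩ := hind0 (g 0) (g 1) (g 2) hg
      have hb : g 1 = 0 := by
        by_contra hb
        simp only [Matrix.cons_val_zero, Matrix.cons_val_one, Matrix.cons_val] at hg
        rw [hc, zero_smul, add_zero] at hg
        have he' : e = (-(g 0 / g 1)) • x := by
          rw [neg_smul, div_eq_inv_mul, ← smul_smul, eq_neg_of_add_eq_zero_left hg, smul_neg,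
            neg_neg, smul_smul, inv_mul_cancel₀ hb, one_smul]
        have h1 := hey
        rw [he', hsmul_left hF hσ, hxy, mul_one] at h1
        exact he0 (by rw [he', h1, zero_smul])
      intro i
      fin_cases i
      · exact ha hb
      · exact hb
      · exact hc
    refine he0 (eq_zero_of_perp hF hσ fun w => ?_)
    have hsp : w ∈ Submodule.span F (Set.range ![x, e, y]) := by
      rw [hl2.span_eq_top_of_card_eq_finrank' (by simp)]; exact Submodule.mem_top
    obtain ⟨g, rfl⟩ := (Submodule.mem_span_range_iff_exists_fun F).1 hsp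
    rw [Fin.sum_univ_three]
    simp [hadd_left hF hσ, hsmul_left hF hσ, hxe, hee, hye]
  refine ⟨e, hex, hey, hee, hli hee, fun w hw => ?_⟩
  have hsp : w ∈ Submodule.span F (Set.range ![x, e, y]) := by
    rw [(hli hee).span_eq_top_of_card_eq_finrank' (by simp)]; exact Submodule.mem_top
  obtain ⟨g, rfl⟩ := (Submodule.mem_span_range_iff_exists_fun F).1 hsp
  rw [Fin.sum_univ_three] at hw ⊢
  simp [hadd_left hF hσ, hsmul_left hF hσ, hxx, hex, hyx] at hw
  exact ⟨g 0, g 1, by simp [hw]⟩

/-- In a frame, an element fixing the isotropic vector is upper triangular of determinant `c`. -/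
lemma scale_eq_one {x e y : V3} (hli : LinearIndependent F ![x, e, y])
    (g : SU3) (hgx : act g x = x) {a c a' c' : F} (hge : act g e = a • x + c • e)
    (hgy : act g y = a' • x + c' • e + y) : c = 1 := by
  set B : Matrix (Fin 3) (Fin 3) F := (Matrix.of ![x, e, y])ᵀ with hB
  have hBd : B.det ≠ 0 := by
    rw [hB, det_transpose]
    exact ((Matrix.isUnit_iff_isUnit_det _).1 (Matrix.linearIndependent_rows_iff_isUnit.1 hli)).ne_zero
  set M := (g.1 : Matrix (Fin 3) (Fin 3) F) with hM
  have e1 : M * B = B * !![1, a, a'; 0, c, c'; 0, 0, 1] := by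
    ext i j
    rw [Matrix.mul_apply, Matrix.mul_apply]
    have h1 : ∀ v : V3, ∑ k, M i k * v k = act g v i := fun v => rfl
    fin_cases j
    · simp [hB, h1, hgx, Fin.sum_univ_three]
    · simp [hB, Fin.sum_univ_three]
      have := (h1 e).trans (congrFun hge i)
      simp [Fin.sum_univ_three] at this
      linear_combination this
    · simp [hB, Fin.sum_univ_three]
      have := (h1 y).trans (congrFun hgy i)
      simp [Fin.sum_univ_three] at this
      linear_combination this
  have hd := congrArg Matrix.det e1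
  rw [det_mul, det_mul, show M.det = 1 from g.1.2, one_mul] at hd
  have : (!![1, a, a'; 0, c, c'; 0, 0, 1] : Matrix (Fin 3) (Fin 3) F).det = c := by
    simp [Matrix.det_fin_three]
  rw [this] at hd
  exact (mul_left_cancel₀ hBd (hd.symm.trans (mul_one _).symm))

lemma mem_qSU_of_fix {x : V3} (hx : Isot q x) {g : SU3} (hgx : act g x = x) : g ∈ qSU x := by
  obtain ⟨y, hy⟩ := exists_partner hF hσ hx.1
  obtain ⟨e, hex, hey, hee, hli, hsp⟩ := frame hF hσ hx.2 hy
  have hperp : ∀ w, h3 w x = 0 → h3 (act g w) x = 0 := fun w hw => by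
    rw [← hgx, act_form]; exact hw
  obtain ⟨a, c, hge⟩ := hsp _ (hperp e hex)
  obtain ⟨a', c', hgy⟩ := hsp (act g y - y) (by
    rw [hsub_left hF hσ]
    conv_lhs => arg 1; rw [← hgx]
    rw [act_form, sub_self])
  have hc := scale_eq_one hF hσ hli g hgx hge (sub_eq_iff_eq_add.1 hgy)
  refine ⟨hgx, fun w hw => ?_⟩
  obtain ⟨α, β, rfl⟩ := hsp w hw
  rw [act_add, act_smul, act_smul, hgx, hge, hc, one_smul]
  refine Submodule.mem_span_singleton.2 ⟨β * a, ?_⟩
  rw [smul_add, smul_smul]
  abel

lemma fix_unique {x x' : V3} (hx : Isot q x) (hx' : Isot q x') {g : SU3} (hg : g ≠ 1)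
    (h1 : act g x = x) (h2 : act g x' = x') : ∃ a : F, x' = a • x := by
  by_cases ha : h3 x' x = 0
  · obtain ⟨y, hy⟩ := exists_partner hF hσ hx.1
    obtain ⟨e, hex, -, hee, -, hsp⟩ := frame hF hσ hx.2 hy
    obtain ⟨a, b, rfl⟩ := hsp x' ha
    have hxe : h3 x e = 0 := (hcomm hF hσ _ _).1 hex
    have := hx'.2
    simp only [hadd_left hF hσ, hadd_right hF hσ, hsmul_left hF hσ, hsmul_right hF hσ, hx.2, hex,
      hxe, mul_zero, zero_add] at this
    rcases mul_eq_zero.1 this with hb | hb
    · exact ⟨a, by rw [hb, zero_smul, add_zero]⟩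
    rcases mul_eq_zero.1 hb with hb | hb
    · exact ⟨a, by rw [(map_eq_zero_iff σ σ.injective).1 hb, zero_smul, add_zero]⟩
    · exact absurd hb hee
  · exfalso
    refine hg (act_ext fun w => ?_)
    set y := (h3 x' x)⁻¹ • x' with hydef
    have hy : h3 y x = 1 := by rw [hydef, hsmul_left hF hσ, inv_mul_cancel₀ ha]
    have hgy : act g y = y := by rw [hydef, act_smul, h2]
    obtain ⟨e, hex, hey, hee, hli, hsp⟩ := frame hF hσ hx.2 hy
    obtain ⟨a, c, hge⟩ := hsp (act g e) (by rw [← h1, act_form]; exact hex)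
    have hc := scale_eq_one hF hσ hli g h1 hge (a' := 0) (c' := 0) (by simp [hgy])
    have hxy : h3 x y = 1 := by rw [hconj hF hσ y x, hy, map_one]
    have ha0 : a = 0 := by
      have := congrArg (fun v => h3 v y) hge
      simp only [hadd_left hF hσ, hsmul_left hF hσ, hxy, hey, mul_one, mul_zero, add_zero] at this
      rw [← this, ← hgy, act_form]
      exact hey
    have hspan : w ∈ Submodule.span F (Set.range ![x, e, y]) := by
      rw [hli.span_eq_top_of_card_eq_finrank' (by simp)]; exact Submodule.mem_top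
    obtain ⟨f, rfl⟩ := (Submodule.mem_span_range_iff_exists_fun F).1 hspan
    rw [Fin.sum_univ_three, act_one]
    simp [act_add, act_smul, h1, hgy, hge, ha0, hc]

end CfsgLib.QdFreeU3
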