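/-
`Qd(p)` is not involved in `PSU(3, q)`: the section argument.
-/
import Cfsg.Agent.Lib.QdFreeU3.Main
import Cfsg.Prelude.Def_LocalEven
import Cfsg.Agent.Lib.Classical.HermOrder

set_option autoImplicit false

namespace CfsgLib.QdFreeU3

open Matrix CfsgLib.PSUAut
open CfsgLib.UnitarySpec (psuMk)

/-- Elements of `p`-power order lift along surjections. -/
theorem exists_p_lift {A B : Type*} [Group A] [Finite A] [Group B] {p : ℕ} [Fact p.Prime]
    (f : A →* B) (hf : Function.Surjective f) {b : B} {k : ℕ} (hb : b ^ p ^ k = 1) :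
    ∃ a, f a = b ∧ ∃ i, a ^ p ^ i = 1 := by
  obtain ⟨s, rfl⟩ := hf b
  obtain ⟨i, o, ho, e⟩ := Nat.exists_eq_pow_mul_and_not_dvd (orderOf_pos s).ne' p
    (Fact.out : p.Prime).ne_one
  obtain ⟨m, hm⟩ := exists_pow_eq_self_of_coprime (x := f s) (n := o)
    (((((Fact.out : p.Prime).coprime_iff_not_dvd).2 ho).pow_left k).symm.of_dvd_right
      (orderOf_dvd_of_pow_eq_one hb))
  refine ⟨(s ^ o) ^ m, by rw [map_pow, map_pow, hm], i, ?_⟩
  rw [← pow_mul, ← pow_mul, show o * (m * p ^ i) = p ^ i * o * m by ring, pow_mul, ← e,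
    pow_orderOf_eq_one, one_pow]

variable {F : Type*} [Field F] [Fintype F] {q : ℕ} {p : ℕ} [Fact p.Prime] [CharP F p]

/-- In the normaliser of a non-trivial `p`-subgroup of `PSU(3, q)` products of `p`-elements are
`p`-elements. -/
theorem exists_pow_mul (hF : Fintype.card F = q ^ 2) (hpq : p ∣ q)
    (Q : Subgroup (Cfsg.PSU 3 F q)) (hQ : IsPGroup p Q) (hQ1 : Q ≠ ⊥)
    {a b : Cfsg.PSU 3 F q} (ha : a ∈ Subgroup.normalizer (Q : Set (Cfsg.PSU 3 F q)))
    (hb : b ∈ Subgroup.normalizer (Q : Set (Cfsg.PSU 3 F q)))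
    {i j : ℕ} (hai : a ^ p ^ i = 1) (hbj : b ^ p ^ j = 1) : ∃ k, (a * b) ^ p ^ k = 1 := by
  obtain ⟨σ₀, hσ₀, hinv, -⟩ := CfsgLib.Classical.exists_qPow hF
  let σ : F ≃+* F := RingEquiv.ofBijective σ₀ ⟨σ₀.injective, fun a => ⟨σ₀ a, hinv a⟩⟩
  have hσ : ∀ a, σ a = a ^ q := hσ₀
  set π : Cfsg.SU 3 F q →* Cfsg.PSU 3 F q :=
    QuotientGroup.mk' (Subgroup.center (Cfsg.SU 3 F q)) with hπ
  have hπs : Function.Surjective π := QuotientGroup.mk'_surjective _
  -- lifts of `p`-elements are unique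
  have huniq : ∀ s t : Cfsg.SU 3 F q, π s = π t → (∃ i, s ^ p ^ i = 1) → (∃ i, t ^ p ^ i = 1) →
      s = t := by
    rintro s t e ⟨i, hi⟩ ⟨j, hj⟩
    obtain ⟨z, hz, rfl⟩ := (QuotientGroup.mk'_eq_mk' _).1 e
    have hc : Commute s z := Subgroup.mem_center_iff.1 hz s
    have hz1 : z ^ p ^ (i + j) = 1 := by
      have h1 : (s * z) ^ p ^ (i + j) = 1 := by rw [add_comm, pow_add, pow_mul, hj, one_pow]
      rwa [hc.mul_pow, pow_add, pow_mul, hi, one_pow, one_mul, ← pow_add] at h1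
    have hz2 : orderOf z ∣ Nat.gcd 3 (q + 1) := by
      rw [← CfsgLib.Classical.card_center_su hF (by omega : 2 ≤ 3)]
      exact Subgroup.orderOf_dvd_natCard _ hz
    have hcop : Nat.Coprime (p ^ (i + j)) (Nat.gcd 3 (q + 1)) := by
      refine Nat.Coprime.pow_left _ (((Fact.out : p.Prime).coprime_iff_not_dvd).2 fun h => ?_)
      have h2 := Nat.dvd_sub (h.trans (Nat.gcd_dvd_right 3 (q + 1))) hpq
      rw [Nat.add_sub_cancel_left] at h2
      exact (Fact.out : p.Prime).ne_one (Nat.dvd_one.1 h2)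
    rw [orderOf_eq_one_iff.1 (Nat.eq_one_of_dvd_coprimes hcop (orderOf_dvd_of_pow_eq_one hz1) hz2),
      mul_one]
  set C := Q.comap π with hC
  let T : Sylow p C := default
  set P := (T : Subgroup C).map C.subtype with hP
  have hPp : IsPGroup p P := T.isPGroup'.map _
  have hPel : ∀ s ∈ P, ∃ i, s ^ p ^ i = 1 := fun s hs => by
    obtain ⟨i, hi⟩ := hPp ⟨s, hs⟩
    exact ⟨i, congrArg Subtype.val hi⟩
  -- the image of `P` is `Q`
  let π' : C →* Q := (π.comp C.subtype).codRestrict Q fun c => c.2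
  have hπ's : Function.Surjective π' := fun u => by
    obtain ⟨s, hs⟩ := hπs u
    exact ⟨⟨s, show π s ∈ Q from hs.symm ▸ u.2⟩, Subtype.ext hs⟩
  have htop : ((T.mapSurjective hπ's : Sylow p Q) : Subgroup Q) = ⊤ :=
    ((T.mapSurjective hπ's).3 (hQ.to_subgroup ⊤) le_top).symm
  have hPimg : ∀ u ∈ Q, ∃ s ∈ P, π s = u := by
    intro u hu
    have h : (⟨u, hu⟩ : Q) ∈ ((T.mapSurjective hπ's : Sylow p Q) : Subgroup Q) :=
      htop ▸ Subgroup.mem_top _
    rw [Sylow.coe_mapSurjective] at h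
    obtain ⟨c, hc, e⟩ := h
    exact ⟨c, Subgroup.mem_map_of_mem _ hc, congrArg Subtype.val e⟩
  obtain ⟨s₀, hs₀, hs₀1⟩ : ∃ s ∈ P, s ≠ 1 := by
    by_contra hall
    push Not at hall
    refine hQ1 ((Subgroup.eq_bot_iff_forall _).2 fun u hu => ?_)
    obtain ⟨s, hs, rfl⟩ := hPimg u hu
    rw [hall s hs, map_one]
  obtain ⟨x, hx, hfix⟩ := exists_iso_fixed hF hσ (by omega : 2 ≤ 3) hPp
  -- `p`-elements of the normaliser fix `x`
  have key : ∀ u ∈ Subgroup.normalizer (Q : Set (Cfsg.PSU 3 F q)), ∀ i, u ^ p ^ i = 1 →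
      ∃ g ∈ qSU (q := q) x, π g = u := by
    intro u hu i hui
    obtain ⟨g, hgu, k, hgk⟩ := exists_p_lift π hπs hui
    refine ⟨g, mem_qSU_of_fix hF hσ hx ?_, hgu⟩
    have hgx : Isot q (act g x) := Isot.act g hx
    have hfix' : act s₀ (act g x) = act g x := by
      have hconj : g⁻¹ * s₀ * g ∈ P := by
        obtain ⟨s, hs, hse⟩ := hPimg (π (g⁻¹ * s₀ * g)) (by
          rw [map_mul, map_mul, map_inv, hgu]
          have h := (Subgroup.mem_normalizer_iff.1 (inv_mem hu) (π s₀)).1 (by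
            obtain ⟨c, -, rfl⟩ := hs₀
            exact c.2)
          rwa [inv_inv] at h)
        obtain ⟨m, hm⟩ := hPel s₀ hs₀
        rwa [← huniq _ _ hse (hPel s hs) ⟨m, by
          rw [show g⁻¹ * s₀ * g = g⁻¹ * s₀ * g⁻¹⁻¹ by rw [inv_inv], conj_pow, hm]; group⟩]
      have h := congrArg (act g) (hfix _ hconj)
      rwa [← act_mul, ← mul_assoc, mul_inv_cancel_left, act_mul] at h
    obtain ⟨c, hc⟩ := fix_unique hF hσ hx hgx hs₀1 (hfix s₀ hs₀) hfix'
    have hpow : ∀ m : ℕ, act (g ^ m) x = c ^ m • x := by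
      intro m
      induction m with
      | zero => simp [act_one]
      | succ m ih => rw [pow_succ', act_mul, ih, act_smul, hc, smul_smul, pow_succ]
    have h1 := hpow (p ^ k)
    rw [hgk, act_one] at h1
    have h2 : c ^ p ^ k = 1 := by
      have : (c ^ p ^ k - 1) • x = 0 := by rw [sub_smul, one_smul, ← h1, sub_self]
      exact sub_eq_zero.1 ((smul_eq_zero.1 this).resolve_right hx.1)
    have hc1 : c = 1 := by
      have : (c - 1) ^ p ^ k = 0 := by rw [sub_pow_char_pow, one_pow, h2, sub_self]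
      exact sub_eq_zero.1 (eq_zero_of_pow_eq_zero this)
    rw [hc, hc1, one_smul]
  obtain ⟨g, hg, rfl⟩ := key a ha i hai
  obtain ⟨g', hg', rfl⟩ := key b hb j hbj
  exact ⟨2, by rw [← map_mul, ← map_pow, qSU_pow hF hσ (by omega) hx (mul_mem hg hg'), map_one]⟩

theorem not_involves (hF : Fintype.card F = q ^ 2) (hpq : p ∣ q) :
    ¬ Cfsg.Involves ↥(Cfsg.qd p) (Cfsg.PSU 3 F q) := by
  rintro ⟨K, R, hR, ⟨e⟩⟩
  let f : K →* ↥(Cfsg.qd p) := e.toMonoidHom.comp (QuotientGroup.mk' (R.subgroupOf K))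
  have hf : Function.Surjective f := e.surjective.comp (QuotientGroup.mk'_surjective _)
  set V := CfsgLib.Techniques.Qd.translations p with hVdef
  haveI := CfsgLib.Techniques.Qd.translations_normal (p := p)
  haveI : NeZero p := ⟨(Fact.out : p.Prime).ne_zero⟩
  have hVp : IsPGroup p V :=
    IsPGroup.of_card (n := 2) CfsgLib.Techniques.Qd.card_translations
  set W := V.comap f with hW
  let T : Sylow p W := default
  set T' := (T : Subgroup W).map W.subtype with hT'
  let f' : W →* V := (f.comp W.subtype).codRestrict V fun w => w.2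
  have hf's : Function.Surjective f' := fun u => by
    obtain ⟨s, hs⟩ := hf u
    exact ⟨⟨s, show f s ∈ V from hs.symm ▸ u.2⟩, Subtype.ext hs⟩
  have htop : ((T.mapSurjective hf's : Sylow p V) : Subgroup V) = ⊤ :=
    ((T.mapSurjective hf's).3 (hVp.to_subgroup ⊤) le_top).symm
  have hT'img : ∀ v ∈ V, ∃ w ∈ T', f w = v := by
    intro v hv
    have h : (⟨v, hv⟩ : V) ∈ ((T.mapSurjective hf's : Sylow p V) : Subgroup V) :=
      htop ▸ Subgroup.mem_top _
    rw [Sylow.coe_mapSurjective] at h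
    obtain ⟨w, hw, e'⟩ := h
    exact ⟨w, Subgroup.mem_map_of_mem _ hw, congrArg Subtype.val e'⟩
  set N := Subgroup.normalizer (T' : Set K) with hN
  have hsup : N ⊔ W = ⊤ := by
    haveI : W.Normal := Subgroup.Normal.comap inferInstance f
    exact Sylow.normalizer_sup_eq_top T
  have hNs : Function.Surjective (f.comp N.subtype) := by
    intro u
    have htop' : N.map f = ⊤ := by
      rw [eq_top_iff, ← Subgroup.map_top_of_surjective f hf, ← hsup, Subgroup.map_sup, sup_le_iff]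
      refine ⟨le_rfl, ?_⟩
      rintro _ ⟨w, hw, rfl⟩
      obtain ⟨t, ht, hte⟩ := hT'img (f w) hw
      exact ⟨t, Subgroup.le_normalizer ht, hte⟩
    obtain ⟨s, hs, rfl⟩ : u ∈ N.map f := htop' ▸ Subgroup.mem_top u
    exact ⟨⟨s, hs⟩, rfl⟩
  -- into `PSU`
  set Q := T'.map K.subtype with hQdef
  have hQp : IsPGroup p Q := (T.isPGroup'.map _).map _
  have hQ1 : Q ≠ ⊥ := by
    intro h
    have hV1 : V = ⊥ := by
      refine (Subgroup.eq_bot_iff_forall _).2 fun v hv => ?_
      obtain ⟨w, hw, rfl⟩ := hT'img v hv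
      have : (w : Cfsg.PSU 3 F q) = 1 := by
        rw [← Subgroup.mem_bot, ← h]; exact Subgroup.mem_map_of_mem _ hw
      rw [show w = 1 from Subtype.ext this, map_one]
    have h1 := CfsgLib.Techniques.Qd.card_translations (p := p)
    rw [← hVdef, hV1, Subgroup.card_bot] at h1
    nlinarith [(Fact.out : p.Prime).two_le]
  have hNle : ∀ s ∈ N, (s : Cfsg.PSU 3 F q) ∈ Subgroup.normalizer (Q : Set (Cfsg.PSU 3 F q)) := by
    intro s hs
    rw [Subgroup.mem_normalizer_iff]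
    intro u
    constructor
    · rintro ⟨t, ht, rfl⟩
      exact ⟨s * t * s⁻¹, (Subgroup.mem_normalizer_iff.1 hs t).1 ht, rfl⟩
    · rintro ⟨t, ht, e'⟩
      refine ⟨s⁻¹ * t * s, ?_, ?_⟩
      · refine (Subgroup.mem_normalizer_iff.1 hs _).2 ?_
        rw [show s * (s⁻¹ * t * s) * s⁻¹ = t by group]
        exact ht
      · show (s : Cfsg.PSU 3 F q)⁻¹ * t * s = u
        rw [show (t : Cfsg.PSU 3 F q) = s * u * (s : Cfsg.PSU 3 F q)⁻¹ from e']; group
  obtain ⟨a, ha, i, hai⟩ := exists_p_lift (f.comp N.subtype) hNs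
    (b := (CfsgLib.Techniques.Qd.up 1 : ↥(Cfsg.qd p))) (p := p) (k := 1)
    (by rw [pow_one]; exact CfsgLib.Techniques.Qd.up_one_pow_self)
  obtain ⟨b, hb, j, hbj⟩ := exists_p_lift (f.comp N.subtype) hNs
    (b := (CfsgLib.Techniques.Qd.low 1 : ↥(Cfsg.qd p))) (p := p) (k := 1) (by
      rw [pow_one]
      have : ∀ m : ℕ, (CfsgLib.Techniques.Qd.low 1 : ↥(Cfsg.qd p)) ^ m =
          CfsgLib.Techniques.Qd.low (m : ZMod p) := by
        intro m
        induction m with
        | zero => rw [pow_zero, Nat.cast_zero]; exact (Subtype.ext (CfsgLib.Techniques.Qd.mk_one (by ring))).symm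
        | succ m ih =>
          rw [pow_succ, ih]
          apply Subtype.ext
          simp only [CfsgLib.Techniques.Qd.low, Subgroup.coe_mul, CfsgLib.Techniques.Qd.mk_mul]
          congr 1 <;> push_cast <;> ring
      rw [this, ZMod.natCast_self]
      exact Subtype.ext (CfsgLib.Techniques.Qd.mk_one (by ring)))
  obtain ⟨k, hk⟩ := exists_pow_mul hF hpq Q hQp hQ1 (hNle a.1 a.2) (hNle b.1 b.2)
    (i := i) (j := j) (congrArg (fun z : N => ((z : K) : Cfsg.PSU 3 F q)) hai)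
    (congrArg (fun z : N => ((z : K) : Cfsg.PSU 3 F q)) hbj)
  have hk' : (a * b) ^ p ^ k = 1 := Subtype.ext (Subtype.ext hk)
  have h := congrArg (f.comp N.subtype) hk'
  rw [map_pow, map_mul, map_one, ha, hb] at h
  -- the product is not unipotent
  set M := ((CfsgLib.Techniques.Qd.up (1 : ZMod p) * CfsgLib.Techniques.Qd.low 1 :
    ↥(Cfsg.qd p)) : Matrix.SpecialLinearGroup (Fin 3) (ZMod p)).1 with hM
  have hMp : M ^ p ^ k = 1 := by
    have := congrArg (fun z : ↥(Cfsg.qd p) =>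
      (z : Matrix.SpecialLinearGroup (Fin 3) (ZMod p)).1) h
    rw [hM]
    simpa using this
  have hnil : IsNilpotent (M - 1) := ⟨p ^ k, by
    rw [sub_pow_char_pow_of_commute (p := p) (n := k) (Commute.one_right M), hMp, one_pow, sub_self]⟩
  have htr := (Matrix.isNilpotent_trace_of_isNilpotent hnil).eq_zero
  have : (1 : ZMod p) = 0 := by
    rw [← htr, hM]
    simp only [CfsgLib.Techniques.Qd.up, CfsgLib.Techniques.Qd.low, Subgroup.coe_mul,
      CfsgLib.Techniques.Qd.mk_mul]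
    simp [CfsgLib.Techniques.Qd.mk, Matrix.trace_fin_three]
    ring
  exact one_ne_zero this

end CfsgLib.QdFreeU3
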